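import Groth.Agent.DiagAction.Global
import Groth.Agent.DiagGrp.Hom
import Groth.Agent.Transporter.EqLocus

/-!
A group of multiplicative type has no nontrivial homomorphism to the additive group.
-/

universe u

open CategoryTheory Limits MonoidalCategory CartesianMonoidalCategory MonObj GrpObj AlgebraicGeometry
open CoactBr Groth.Agent.DiagGrp Groth.Agent.DiagAction Groth.Agent.CentralDescent

set_option backward.isDefEq.respectTransparency false
set_option linter.style.haveILetI false

noncomputable section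

namespace Groth.Agent.GaHom

variable {S : Scheme.{u}} {H G : Over S} [GrpObj H] [GrpObj G] (u : H ⟶ G) [IsMonHom u]

/-- an additive coordinate on the points of `G` -/
structure AddCoord (G : Over S) [GrpObj G] where
  /-- the function attached to a point -/
  fn : ∀ {X : Over S}, (X ⟶ G) → Γ(X.left, ⊤)
  comp : ∀ {X Y : Over S} (f : Y ⟶ X) (x : X ⟶ G), fn (f ≫ x) = f.left.appTop (fn x)
  mul : ∀ {X : Over S} (x y : X ⟶ G), fn (x * y) = fn x + fn y
  inj : ∀ {X : Over S}, Function.Injective (fn : (X ⟶ G) → _)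

theorem AddCoord.fn_one (c : AddCoord G) {X : Over S} : c.fn (1 : X ⟶ G) = 0 := by
  have h := c.mul (1 : X ⟶ G) 1
  rwa [_root_.one_mul, left_eq_add] at h

/-- primitive elements of a monoid algebra vanish -/
theorem eq_zero_of_primitive {A : Type u} [CommRing A] {M : Type} [CommGroup M] (g : MonoidAlgebra A M)
    (h : MonoidAlgebra.mapDomainAlgHom A A (MonoidHom.prod (MonoidHom.id M) (MonoidHom.id M)) g =
      MonoidAlgebra.mapDomainAlgHom A A (MonoidHom.inl M M) g +
        MonoidAlgebra.mapDomainAlgHom A A (MonoidHom.inr M M) g) : g = 0 := by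
  have inj : ∀ (φ : M →* M × M), Function.Injective φ → ∀ m, (MonoidAlgebra.mapDomainAlgHom A A φ g).coeff (φ m) =
      g.coeff m := fun φ hφ m => by
    simp [MonoidAlgebra.mapDomainAlgHom, Finsupp.mapDomain_apply hφ]
  have out : ∀ (φ : M →* M × M) (q : M × M), (∀ m, φ m ≠ q) →
      (MonoidAlgebra.mapDomainAlgHom A A φ g).coeff q = 0 := fun φ q hq => by
    simp only [MonoidAlgebra.mapDomainAlgHom]
    exact Finsupp.mapDomain_notin_range _ _ (by rintro ⟨m, hm⟩; exact hq m hm)
  refine MonoidAlgebra.ext (Finsupp.ext fun m => ?_)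
  have hc := congrArg (fun z : MonoidAlgebra A (M × M) => z.coeff (m, m)) h
  simp only [MonoidAlgebra.coeff_add, Finsupp.add_apply] at hc
  have hd := inj (MonoidHom.prod (MonoidHom.id M) (MonoidHom.id M)) (fun a b e => congrArg Prod.fst e) m
  rw [MonoidHom.prod_apply] at hd
  rw [show (MonoidHom.id M m, MonoidHom.id M m) = (m, m) from rfl] at hd
  rw [hd] at hc
  show g.coeff m = (0 : MonoidAlgebra A M).coeff m
  by_cases hm : m = 1
  · subst hm
    have h1 := inj (MonoidHom.inl M M) (fun a b e => congrArg Prod.fst e) 1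
    have h2 := inj (MonoidHom.inr M M) (fun a b e => congrArg Prod.snd e) 1
    rw [MonoidHom.inl_apply] at h1
    rw [MonoidHom.inr_apply] at h2
    rw [h1, h2] at hc
    simpa using hc
  · rw [out (MonoidHom.inl M M) (m, m) (fun a e => hm (congrArg Prod.snd e).symm),
      out (MonoidHom.inr M M) (m, m) (fun a e => hm (congrArg Prod.fst e).symm), add_zero] at hc
    simpa using hc

theorem point_eq_one (c : AddCoord G) {A : Type u} [CommRing A] (w : Spec (CommRingCat.of A) ⟶ S) {M : Type} [CommGroup M]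
    (hE : Nonempty (Grp.mk (Red.bc w H) ≅ Grp.mk (sp A (MonoidAlgebra A M)))) (Z : Over (Spec (CommRingCat.of A)))
    (z : Z ⟶ Red.bc w H) : downP w z ≫ u = 1 := by
  obtain ⟨E⟩ := hE
  let e : sp A (MonoidAlgebra A M) ⟶ Red.bc w H := E.inv.hom.hom
  haveI : IsMonHom e := E.inv.hom.isMonHom_hom
  haveI : IsIso e := ((Grp.forget _).mapIso E).isIso_inv
  suffices downP w e ≫ u = 1 by
    rw [show z = (z ≫ inv e) ≫ e by simp, downP_comp, Category.assoc, this, MonObj.comp_one]
  let x := downP w e ≫ u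
  let φ : MonoidAlgebra A M := (Scheme.ΓSpecIso (CommRingCat.of (MonoidAlgebra A M))).hom (c.fn x)
  let i1 : MonoidAlgebra A M →ₐ[A] MonoidAlgebra A (M × M) := MonoidAlgebra.mapDomainAlgHom A A (MonoidHom.inl M M)
  let i2 : MonoidAlgebra A M →ₐ[A] MonoidAlgebra A (M × M) := MonoidAlgebra.mapDomainAlgHom A A (MonoidHom.inr M M)
  let i3 : MonoidAlgebra A M →ₐ[A] MonoidAlgebra A (M × M) :=
    MonoidAlgebra.mapDomainAlgHom A A (MonoidHom.prod (MonoidHom.id M) (MonoidHom.id M))
  have h3 : i3 = conv i1 i2 := algHom_ext_single fun m => by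
    simp [i1, i2, i3, MonoidAlgebra.mapDomainAlgHom, MonoidAlgebra.single_mul_single]
  have hnat : ∀ i : MonoidAlgebra A M →ₐ[A] MonoidAlgebra A (M × M),
      (Scheme.ΓSpecIso (CommRingCat.of (MonoidAlgebra A (M × M)))).hom (c.fn ((Over.map w).map (pt i) ≫ x)) =
        i φ := fun i => by
    rw [c.comp, Over.map_map_left, pt_left]
    exact congrArg (fun f => f.hom (c.fn x)) (Scheme.ΓSpecIso_naturality (CommRingCat.ofHom i.toRingHom))
  have hadd : (Over.map w).map (pt i3) ≫ x = ((Over.map w).map (pt i1) ≫ x) * ((Over.map w).map (pt i2) ≫ x) := by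
    simp only [x, ← Category.assoc, ← downP_comp]
    rw [← MonObj.mul_comp, ← downP_mul, ← MonObj.mul_comp, ← pt_conv, h3]
  have h4 : i3 φ = i1 φ + i2 φ := by
    rw [← hnat, ← hnat, ← hnat, hadd, c.mul, map_add]
  refine c.inj ?_
  rw [c.fn_one]
  apply (Scheme.ΓSpecIso (CommRingCat.of (MonoidAlgebra A M))).commRingCatIsoToRingEquiv.injective
  rw [map_zero]
  exact eq_zero_of_primitive φ h4

theorem hom_eq_one (c : AddCoord G) (hH : Transporter.IsMT H) : u = 1 := by
  obtain ⟨S', f, hflat, hsurj, -, hloc⟩ := hH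
  haveI : Flat f := hflat
  haveI : Surjective f := hsurj
  haveI : Epi (pullback.fst H.hom f) := Flat.epi_of_flat_of_surjective _
  apply Over.OverMorphism.ext
  rw [← cancel_epi (pullback.fst H.hom f)]
  refine ConjInt.hom_ext_local _ _ fun p => ?_
  obtain ⟨U, hpU, M, _, hE⟩ := hloc (pullback.snd H.hom f p)
  obtain ⟨_, ⟨V, hV, rfl⟩, hpV, hVU⟩ := S'.isBasis_affineOpens.exists_subset_of_mem_open
    (show pullback.snd H.hom f p ∈ (U : Set S') from hpU) U.isOpen
  replace hV : IsAffineOpen V := hV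
  let j : Spec (CommRingCat.of Γ(S', V)) ⟶ U := IsOpenImmersion.lift U.ι hV.fromSpec (by
    intro z hz; exact (Scheme.Opens.range_ι U).ge (hVU (hV.range_fromSpec.le hz)))
  let O := pullback.snd H.hom f ⁻¹ᵁ V
  refine ⟨_, O.ι, inferInstance, ⟨⟨p, hpV⟩, rfl⟩, ?_⟩
  let l : (O : Scheme.{u}) ⟶ Spec (CommRingCat.of Γ(S', V)) :=
    IsOpenImmersion.lift hV.fromSpec (O.ι ≫ pullback.snd H.hom f) (by
      rintro _ ⟨z, rfl⟩; exact hV.range_fromSpec.ge z.2)
  let Z : Over (Spec (CommRingCat.of Γ(S', V))) := Over.mk l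
  let q : (Over.map (hV.fromSpec ≫ f)).obj Z ⟶ H := Over.homMk (O.ι ≫ pullback.fst H.hom f) (by
    show (O.ι ≫ pullback.fst H.hom f) ≫ H.hom = l ≫ hV.fromSpec ≫ f
    rw [IsOpenImmersion.lift_fac_assoc, Category.assoc, Category.assoc, pullback.condition])
  have hc : Nonempty (Grp.mk (Red.bc (hV.fromSpec ≫ f) H) ≅
      Grp.mk (sp Γ(S', V) (MonoidAlgebra Γ(S', V) (Multiplicative M)))) :=
    exists_chart_affine j (U.ι ≫ f) (hV.fromSpec ≫ f) (by rw [← Category.assoc, IsOpenImmersion.lift_fac]) H hE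
  have h := point_eq_one u c (hV.fromSpec ≫ f) (M := Multiplicative M) hc Z (upP _ q)
  rw [downP_upP, ← MonObj.comp_one q] at h
  have h' := congrArg CommaMorphism.left h
  simp only [Over.comp_left, q, Over.homMk_left, Category.assoc] at h'
  exact h'

end Groth.Agent.GaHom
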